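import Mathlib.GroupTheory.GroupAction.Basic
import Mathlib.GroupTheory.Perm.Cycle.Type
import Mathlib.GroupTheory.PGroup
import Mathlib.Tactic

/-!
Doubly transitive groups with an elementary abelian normal subgroup of a point stabiliser that is
not semiregular: the conjugate subgroups intersect trivially, and two points determine a line that
is fixed pointwise by every element of a conjugate fixing both of them.
-/

set_option autoImplicit false

namespace Cfsg.Agent.Perm.ElationTI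

variable {G Ω : Type*} [Group G] [MulAction G Ω]

/-- A doubly transitive group with a conjugation invariant family of abelian subgroups, one in each
point stabiliser, none semiregular on the other points. -/
structure Cfg (G Ω : Type*) [Group G] [MulAction G Ω] where
  N : Ω → Subgroup G
  p : ℕ
  hp : p.Prime
  fix : ∀ z, ∀ n ∈ N z, n • z = z
  comm : ∀ z, ∀ a ∈ N z, ∀ b ∈ N z, Commute a b
  pow : ∀ z, ∀ n ∈ N z, n ^ p = 1
  conj : ∀ (g : G) (z : Ω), ∀ n ∈ N z, g * n * g⁻¹ ∈ N (g • z)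
  nsr : ∀ z w : Ω, z ≠ w → ∃ n ∈ N z, n ≠ 1 ∧ n • w = w
  two : ∀ a b a' b' : Ω, a ≠ b → a' ≠ b' → ∃ g : G, g • a = a' ∧ g • b = b'
  faith : ∀ g : G, (∀ z : Ω, g • z = z) → g = 1

namespace Cfg

variable (C : Cfg G Ω)

/-- The members of the subgroup at `z` fixing `w`. -/
def A (z w : Ω) : Subgroup G := C.N z ⊓ MulAction.stabilizer G w

variable {C}

theorem mem_A {z w : Ω} {a : G} : a ∈ C.A z w ↔ a ∈ C.N z ∧ a • w = w := by
  simp [A, MulAction.mem_stabilizer_iff]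

theorem inv_fix {g : G} {z : Ω} (h : g • z = z) : g⁻¹ • z = z :=
  inv_smul_eq_iff.2 h.symm

theorem conj_fixed {g : G} {z : Ω} (hg : g • z = z) {n : G} (hn : n ∈ C.N z) :
    g * n * g⁻¹ ∈ C.N z := by
  simpa [hg] using C.conj g z n hn

theorem conj_A {g : G} {z w : Ω} {a : G} (ha : a ∈ C.A z w) :
    g * a * g⁻¹ ∈ C.A (g • z) (g • w) := by
  rw [mem_A] at ha ⊢
  exact ⟨C.conj g z a ha.1, by simp [mul_smul, ha.2]⟩

theorem conj_A_fixed {g : G} {z w : Ω} (hz : g • z = z) (hw : g • w = w) {a : G}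
    (ha : a ∈ C.A z w) : g * a * g⁻¹ ∈ C.A z w := by
  simpa [hz, hw] using conj_A (g := g) ha

section

variable [Finite G]

theorem card_A_le {g : G} (z w : Ω) : Nat.card (C.A z w) ≤ Nat.card (C.A (g • z) (g • w)) := by
  refine Nat.card_le_card_of_injective
    (fun a => (⟨g * a * g⁻¹, conj_A a.2⟩ : C.A (g • z) (g • w))) ?_
  intro a b h
  exact Subtype.ext (mul_left_cancel (mul_right_cancel (congrArg Subtype.val h)))

variable (C) in
theorem card_A {z w z' w' : Ω} (h : z ≠ w) (h' : z' ≠ w') :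
    Nat.card (C.A z w) = Nat.card (C.A z' w') := by
  obtain ⟨g, rfl, rfl⟩ := C.two z w z' w' h h'
  refine le_antisymm (card_A_le z w) ?_
  simpa using card_A_le (C := C) (g := g⁻¹) (g • z) (g • w)

theorem A_eq_of_le {z w z' w' : Ω} (h : z ≠ w) (h' : z' ≠ w') (hle : C.A z w ≤ C.A z' w') :
    C.A z w = C.A z' w' :=
  Subgroup.eq_of_le_of_card_ge hle (C.card_A h h').ge

/-- An element of order dividing `p` fixing two points commutes with a non-identity member of the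
subgroup of the pair. -/
theorem exists_commute {a : G} {z w : Ω} (hap : a ^ C.p = 1) (hz : a • z = z) (hw : a • w = w)
    (h : z ≠ w) : ∃ c ∈ C.A z w, c ≠ 1 ∧ Commute a c := by
  classical
  haveI := Fact.mk C.hp
  letI := Fintype.ofFinite (C.A z w)
  let σ : Equiv.Perm (C.A z w) :=
    { toFun := fun c => ⟨a * c * a⁻¹, conj_A_fixed hz hw c.2⟩
      invFun := fun c => ⟨a⁻¹ * c * a⁻¹⁻¹, conj_A_fixed (inv_fix hz) (inv_fix hw) c.2⟩
      left_inv := fun c => by apply Subtype.ext; simp [mul_assoc]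
      right_inv := fun c => by apply Subtype.ext; simp [mul_assoc] }
  have hiter : ∀ (k : ℕ) (c : C.A z w), ((σ ^ k) c : G) = a ^ k * c * (a ^ k)⁻¹ := by
    intro k
    induction k with
    | zero => intro c; simp
    | succ k ih =>
      intro c
      rw [pow_succ', Equiv.Perm.mul_apply]
      show a * ((σ ^ k) c : G) * a⁻¹ = _
      rw [ih, pow_succ']
      group
  have hσ : σ ^ C.p ^ 1 = 1 := by
    ext c
    simp [hiter, hap]
  obtain ⟨n, hn, hn1, hnw⟩ := C.nsr z w h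
  have hnA : n ∈ C.A z w := mem_A.2 ⟨hn, hnw⟩
  have hdvd : C.p ∣ Fintype.card (C.A z w) := by
    have ho : orderOf (⟨n, hnA⟩ : C.A z w) = C.p := by
      rw [← Subgroup.orderOf_coe]
      exact orderOf_eq_prime (C.pow z n hn) hn1
    exact ho ▸ orderOf_dvd_card
  obtain ⟨c, hc, hne⟩ := Equiv.Perm.exists_fixed_point_of_prime' hdvd hσ
    (a := (1 : C.A z w)) (Subtype.ext (show a * ((1 : C.A z w) : G) * a⁻¹ = _ by simp))
  refine ⟨c, c.2, fun e => hne (Subtype.ext e), ?_⟩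
  have := congrArg Subtype.val hc
  exact mul_inv_eq_iff_eq_mul.1 this

end

/-- A member of the subgroup at a point fixes the orbit of each point it fixes. -/
theorem fix_orbit {x y : Ω} {a n : G} (ha : a ∈ C.A x y) (hn : n ∈ C.N x) :
    a • (n • y) = n • y := by
  rw [mem_A] at ha
  rw [← mul_smul, (C.comm x a ha.1 n hn).eq, mul_smul, ha.2]

/-- Two of the subgroups meet trivially. -/
theorem inter_trivial [Finite G] {x y : Ω} (hxy : x ≠ y) {d : G} (hx : d ∈ C.N x)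
    (hy : d ∈ C.N y) : d = 1 := by
  by_contra hd
  let D : Ω → Ω → Set G := fun a b => {c | c ∈ C.N a ∧ c ∈ C.N b}
  have hcard : ∀ a b a' b' : Ω, a ≠ b → a' ≠ b' →
      Nat.card (D a' b') ≤ Nat.card (D a b) := fun a b a' b' h h' => by
    obtain ⟨g, hga, hgb⟩ := C.two a' b' a b h' h
    subst hga hgb
    refine Nat.card_le_card_of_injective
      (fun c => (⟨g * c * g⁻¹, C.conj g _ _ c.2.1, C.conj g _ _ c.2.2⟩ : D (g • a') (g • b'))) ?_
    intro a b h
    exact Subtype.ext (mul_left_cancel (mul_right_cancel (congrArg Subtype.val h)))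
  have heq : ∀ {a b a' b' : Ω}, a ≠ b → a' ≠ b' → D a b ⊆ D a' b' → D a b = D a' b' := by
    intro a b a' b' h h' hsub
    refine Set.eq_of_subset_of_ncard_le hsub ?_ (Set.toFinite _)
    simpa [← Nat.card_coe_set_eq] using hcard a b a' b' h h'
  let ℓ : Ω → Ω → Set Ω := fun a b => {z | ∀ c ∈ D a b, c ∈ C.N z}
  have hl : ∀ {a b z w : Ω}, a ≠ b → z ∈ ℓ a b → w ∈ ℓ a b → z ≠ w → ℓ z w = ℓ a b := by
    intro a b z w hab hz hw hzw
    have := heq hab hzw fun c hc => ⟨hz c hc, hw c hc⟩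
    show {v | ∀ c ∈ D z w, c ∈ C.N v} = _
    rw [← this]
  have hmem : ∀ a b : Ω, a ∈ ℓ a b ∧ b ∈ ℓ a b :=
    fun a b => ⟨fun c hc => hc.1, fun c hc => hc.2⟩
  have hinv : ∀ {a b : Ω} {n : G}, n ∈ C.N a → n • b ∈ ℓ a b := fun {a b n} hn c hc => by
    have := C.conj n b c hc.2
    rwa [(C.comm a n hn c hc.1).eq, mul_inv_cancel_right] at this
  refine hd (C.faith d fun w => ?_)
  by_cases hw : w ∈ ℓ x y
  · exact C.fix w d (hw d ⟨hx, hy⟩)
  by_contra hne
  have hwx : x ≠ w := fun e => hw (e ▸ (hmem x y).1)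
  have hwy : y ≠ w := fun e => hw (e ▸ (hmem x y).2)
  have e1 := hl hwx (hmem x w).2 (hinv hx) (Ne.symm hne)
  have e2 := hl hwy (hmem y w).2 (hinv hy) (Ne.symm hne)
  have hy' : y ∈ ℓ x w := by rw [← e1, e2]; exact (hmem y w).1
  have e3 := hl hwx (hmem x w).1 hy' hxy
  exact hw (e3 ▸ (hmem x w).2)

variable [Finite G]

/-- The centraliser of a non-identity member fixes its point. -/
theorem fix_of_commute {x : Ω} {n g : G} (hn : n ∈ C.N x) (hn1 : n ≠ 1) (h : Commute g n) :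
    g • x = x := by
  by_contra hne
  refine hn1 (inter_trivial (C := C) hne ?_ hn)
  have := C.conj g x n hn
  rwa [h.eq, mul_inv_cancel_right] at this

/-- Members fixing each other's points commute. -/
theorem commute_pair {x y : Ω} (hxy : x ≠ y) {a b : G} (ha : a ∈ C.A x y) (hb : b ∈ C.A y x) :
    Commute a b := by
  rw [mem_A] at ha hb
  have h1 : a * b * a⁻¹ * b⁻¹ ∈ C.N x := by
    have := (C.N x).mul_mem ha.1 (conj_fixed hb.2 ((C.N x).inv_mem ha.1))
    rwa [show a * (b * a⁻¹ * b⁻¹) = a * b * a⁻¹ * b⁻¹ by group] at this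
  have h2 : a * b * a⁻¹ * b⁻¹ ∈ C.N y :=
    (C.N y).mul_mem (conj_fixed ha.2 hb.1) ((C.N y).inv_mem hb.1)
  exact commutatorElement_eq_one_iff_commute.1 (inter_trivial hxy h1 h2)

/-- If `b` commutes with `n`, the orbit move is trivial. -/
theorem fix_of_comm_pair {x y : Ω} {b n : G} (hb : b ∈ C.A y x) (hb1 : b ≠ 1)
    (h : Commute b n) : n • y = y :=
  fix_of_commute (mem_A.1 hb).1 hb1 h.symm

theorem comm_mem_N {x : Ω} {b n : G} (hb : b • x = x) (hn : n ∈ C.N x) :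
    b * n * b⁻¹ * n⁻¹ ∈ C.N x :=
  (C.N x).mul_mem (conj_fixed hb hn) ((C.N x).inv_mem hn)

/-- If the commutator fixes `y`, then `b` fixes the moved point. -/
theorem fix_moved {x y : Ω} {b n : G} (hbx : b • x = x) (hby : b • y = y) (hn : n ∈ C.N x)
    (hu : (b * n * b⁻¹ * n⁻¹) • y = y) : b • (n • y) = n • y := by
  have hc := C.comm x _ (comm_mem_N hbx hn) n hn
  calc b • (n • y) = ((b * n * b⁻¹ * n⁻¹) * n * b) • y := by rw [← mul_smul]; congr 1; group
    _ = (n * (b * n * b⁻¹ * n⁻¹)) • (b • y) := by rw [mul_smul, hc.eq]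
    _ = n • y := by rw [hby, mul_smul, hu]

/-- A member at `y` fixing `x` displaces the subgroup at `x` inside the members fixing `y`. -/
theorem comm_mem_A {x y : Ω} (hxy : x ≠ y) {b n : G} (hb : b ∈ C.A y x) (hn : n ∈ C.N x) :
    b * n * b⁻¹ * n⁻¹ ∈ C.A x y := by
  have hbx := (mem_A.1 hb).2
  refine mem_A.2 ⟨comm_mem_N hbx hn, ?_⟩
  by_cases hny : n • y = y
  · rw [(commute_pair hxy (mem_A.2 ⟨hn, hny⟩) hb).symm.eq]
    simp
  obtain ⟨a, haN, ha1, hay⟩ := C.nsr x y hxy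
  have haA : a ∈ C.A x y := mem_A.2 ⟨haN, hay⟩
  obtain ⟨b0, hb0, hb01, hcom⟩ := exists_commute (C := C) (C.pow x a haN) hay (fix_orbit haA hn)
    (Ne.symm hny)
  rw [mem_A] at hb0
  have hb0x : b0 • x = x := fix_of_commute haN ha1 hcom.symm
  have hb0B : b0 ∈ C.A y x := mem_A.2 ⟨hb0.1, hb0x⟩
  refine fix_of_comm_pair hb0B hb01 ?_
  set c := b0 * n * b0⁻¹ * n⁻¹ with hcdef
  have hcA : c ∈ C.A x y := by
    refine mem_A.2 ⟨comm_mem_N hb0x hn, ?_⟩
    have h0 := hb0.2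
    have e : b0 • (n • y) = n • (c • y) := by
      calc b0 • (n • y) = (c * n) • (b0 • y) := by rw [hcdef, ← mul_smul, ← mul_smul]; congr 1; group
        _ = n • (c • y) := by
          rw [C.fix y b0 hb0.1, (C.comm x c (comm_mem_N hb0x hn) n hn).eq, mul_smul]
    exact MulAction.injective n (e.symm.trans h0)
  have hbc : b0 * b = b * b0 := (C.comm y b0 hb0.1 b (mem_A.1 hb).1).eq
  have hnc : b0 * n * b0⁻¹ = c * n := by rw [hcdef]; group
  have hcb : b * c * b⁻¹ = c := by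
    rw [(commute_pair hxy hcA hb).symm.eq, mul_inv_cancel_right]
  have hbn : b * (c * n) * b⁻¹ = c * (b * n * b⁻¹) := by
    rw [show b * (c * n) * b⁻¹ = (b * c * b⁻¹) * (b * n * b⁻¹) by group, hcb]
  have key : b0 * (b * n * b⁻¹ * n⁻¹) * b0⁻¹ = b * n * b⁻¹ * n⁻¹ := by
    calc b0 * (b * n * b⁻¹ * n⁻¹) * b0⁻¹
        = (b0 * b) * n * (b0 * b)⁻¹ * (b0 * n * b0⁻¹)⁻¹ := by group
      _ = (b * b0) * n * (b * b0)⁻¹ * (b0 * n * b0⁻¹)⁻¹ := by rw [hbc]
      _ = b * (b0 * n * b0⁻¹) * b⁻¹ * (b0 * n * b0⁻¹)⁻¹ := by group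
      _ = c * (b * n * b⁻¹) * (c * n)⁻¹ := by rw [hnc, hbn]
      _ = b * n * b⁻¹ * n⁻¹ := by
        rw [(C.comm x c (mem_A.1 hcA).1 n hn).eq,
          (C.comm x c (mem_A.1 hcA).1 _ (conj_fixed hbx hn)).eq]; group
  exact mul_inv_eq_iff_eq_mul.1 key

theorem fix_orbit' {x y : Ω} (hxy : x ≠ y) {b n : G} (hb : b ∈ C.A y x) (hn : n ∈ C.N x) :
    b • (n • y) = n • y :=
  fix_moved (mem_A.1 hb).2 (C.fix y b (mem_A.1 hb).1) hn (mem_A.1 (comm_mem_A hxy hb hn)).2

theorem A_orbit {x y : Ω} (hxy : x ≠ y) {n : G} (hn : n ∈ C.N x) :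
    C.A x y = C.A x (n • y) := by
  have hne : x ≠ n • y := fun e => hxy (MulAction.injective n ((C.fix x n hn).trans e))
  exact A_eq_of_le hxy hne fun a ha => mem_A.2 ⟨(mem_A.1 ha).1, fix_orbit ha hn⟩

theorem A_orbit' {x y : Ω} (hxy : x ≠ y) {n : G} (hn : n ∈ C.N x) (hne : n • y ≠ y) :
    C.A y x = C.A y (n • y) :=
  A_eq_of_le hxy.symm hne.symm fun b hb => mem_A.2 ⟨(mem_A.1 hb).1, fix_orbit' hxy hb hn⟩

theorem A_orbit'' {x y : Ω} (hxy : x ≠ y) {n : G} (hn : n ∈ C.N x) (hne : n • y ≠ y) :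
    C.A (n • y) x = C.A (n • y) y := by
  have hne' : x ≠ n • y := fun e => hxy (MulAction.injective n ((C.fix x n hn).trans e))
  have := A_orbit' hne' ((C.N x).inv_mem hn) (by rw [inv_smul_smul]; exact hne.symm)
  rwa [inv_smul_smul] at this

/-- The map `b ↦ [b, n]` is injective when `n` moves `y`. -/
theorem comm_inj {x y : Ω} {b b' n : G} (hb : b ∈ C.A y x) (hb' : b' ∈ C.A y x)
    (hne : n • y ≠ y) (h : b * n * b⁻¹ * n⁻¹ = b' * n * b'⁻¹ * n⁻¹) : b = b' := by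
  by_contra hbb
  refine hne (fix_of_comm_pair ((C.A y x).mul_mem ((C.A y x).inv_mem hb') hb)
    (fun e => hbb (inv_mul_eq_one.1 e).symm) ?_)
  have h' := mul_right_cancel h
  show b'⁻¹ * b * n = n * (b'⁻¹ * b)
  calc b'⁻¹ * b * n = b'⁻¹ * (b * n * b⁻¹) * b := by group
    _ = b'⁻¹ * (b' * n * b'⁻¹) * b := by rw [h']
    _ = n * (b'⁻¹ * b) := by group

/-- A member at a third point fixing two points fixes the orbit of one under the other's
subgroup. -/
theorem fix_third {x y z : Ω} (hxy : x ≠ y) (hxz : x ≠ z) (hyz : y ≠ z) {b n : G}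
    (hb : b ∈ C.A y x) (hbz : b • z = z) (hn : n ∈ C.N x) : b • (n • z) = n • z := by
  have hbx := (mem_A.1 hb).2
  refine fix_moved hbx hbz hn ?_
  have hu := comm_mem_A hxy hb hn
  by_cases hAA : C.A x y = C.A x z
  · exact (mem_A.1 (hAA ▸ hu)).2
  by_cases hny : n • y = y
  · rw [(commute_pair hxy (mem_A.2 ⟨hn, hny⟩) hb).symm.eq]
    simp
  by_contra hbad
  obtain ⟨n1, hn1A, hn1⟩ := SetLike.not_le_iff_exists.1
    (fun h : C.A x z ≤ C.A x y => hAA (A_eq_of_le hxz hxy h).symm)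
  have hn1y : n1 • y ≠ y := fun e => hn1 (mem_A.2 ⟨(mem_A.1 hn1A).1, e⟩)
  have hb1 : b ≠ 1 := by rintro rfl; simp at hbad
  let K : Set G := {a | a ∈ C.A x y ∧ a • z = z}
  let B0 : Set G := {c | c ∈ C.A y x ∧ c • z = z}
  let B1 : Set G := {c | c ∈ C.A y x ∧ (c * n * c⁻¹ * n⁻¹) • z = z}
  have hB0K : ∀ c ∈ B0, c * n1 * c⁻¹ * n1⁻¹ ∈ K := by
    intro c hc
    refine ⟨comm_mem_A hxy hc.1 (mem_A.1 hn1A).1, ?_⟩
    exact (mem_A.1 ((C.A x z).mul_mem (conj_A_fixed (mem_A.1 hc.1).2 hc.2 hn1A)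
      ((C.A x z).inv_mem hn1A))).2
  have h01 : Nat.card B0 ≤ Nat.card K :=
    Nat.card_le_card_of_injective (fun c => (⟨_, hB0K c c.2⟩ : K))
      fun c c' h => Subtype.ext (comm_inj c.2.1 c'.2.1 hn1y (congrArg Subtype.val h))
  have h1 : Nat.card K ≤ Nat.card B1 := by
    let φ : C.A y x → C.A x y := fun c => ⟨_, comm_mem_A hxy c.2 hn⟩
    have hφi : Function.Injective φ :=
      fun c c' h => Subtype.ext (comm_inj c.2 c'.2 hny (congrArg Subtype.val h))
    have hφ : Function.Surjective φ :=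
      ((Nat.bijective_iff_injective_and_card φ).2 ⟨hφi, C.card_A hxy.symm hxy⟩).2
    choose ψ hψ using hφ
    refine Nat.card_le_card_of_injective
      (fun k => (⟨ψ ⟨k, k.2.1⟩, (ψ _).2, ?_⟩ : B1)) ?_
    · have e := congrArg Subtype.val (hψ ⟨k, k.2.1⟩)
      simp only [φ] at e
      rw [e]
      exact k.2.2
    · intro k k' h
      simp only [Subtype.mk.injEq] at h
      have := congrArg φ (Subtype.ext h : ψ ⟨k, k.2.1⟩ = ψ ⟨k', k'.2.1⟩)
      rw [hψ, hψ] at this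
      exact Subtype.ext (Subtype.mk.inj this)
  obtain ⟨b1, hb1B1, hb1z⟩ : ∃ c ∈ B1, c • z ≠ z := by
    by_contra hall
    push Not at hall
    have hsub : B1 ⊆ B0 := fun c hc => ⟨hc.1, hall c hc⟩
    have : B1 = B0 := Set.eq_of_subset_of_ncard_le hsub
      (by simpa [← Nat.card_coe_set_eq] using h01.trans h1) (Set.toFinite _)
    exact hbad (this.symm ▸ ⟨hb, hbz⟩ : b ∈ B1).2
  set d := b1 * n * b1⁻¹ * n⁻¹ with hd
  have hdA : d ∈ C.A x y := comm_mem_A hxy hb1B1.1 hn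
  have hb'N : d⁻¹ * b1 ∈ C.N (n • y) := by
    have hdn : d * n = n * d := (C.comm x d (mem_A.1 hdA).1 n hn).eq
    have hdb : d * b1 = b1 * d := (commute_pair hxy hdA hb1B1.1).eq
    have e : n * b1 * n⁻¹ = d⁻¹ * b1 := by
      have e1 : b1 * n = n * d * b1 := by rw [← hdn, hd]; group
      calc n * b1 * n⁻¹ = n * (d * b1) * d⁻¹ * n⁻¹ := by rw [hdb]; group
        _ = (b1 * n) * (n * d)⁻¹ := by rw [e1]; group
        _ = b1 * (n * (d * n)⁻¹) := by rw [← hdn]; group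
        _ = b1 * d⁻¹ := by group
        _ = d⁻¹ * b1 := (commute_pair hxy ((C.A x y).inv_mem hdA) hb1B1.1).eq.symm
    exact e ▸ C.conj n y b1 (mem_A.1 hb1B1.1).1
  have hbz' : (d⁻¹ * b1) • z = b1 • z := by
    rw [(commute_pair hxy ((C.A x y).inv_mem hdA) hb1B1.1).eq, mul_smul]
    have : d⁻¹ • z = z := inv_fix hb1B1.2
    rw [this]
  have hnyz : n • y ≠ z := fun e => hAA (e ▸ A_orbit hxy hn)
  have hzz : C.A z y = C.A z (n • y) := by
    have e1 := A_orbit' hyz (mem_A.1 hb1B1.1).1 hb1z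
    have e2 := A_orbit' hnyz hb'N (by rw [hbz']; exact hb1z)
    rw [hbz'] at e2
    rw [e1, e2]
  have hbc := mem_A.1 hb
  obtain ⟨a, haK, ha1⟩ : ∃ a ∈ K, a ≠ 1 :=
    ⟨_, hB0K b ⟨hb, hbz⟩, fun e => hb1 (comm_inj hb (one_mem _) hn1y (by rw [e]; group))⟩
  have haN := (mem_A.1 haK.1).1
  obtain ⟨c, hc, hc1, hac⟩ := exists_commute (C := C) (C.pow x a haN) haK.2 (mem_A.1 haK.1).2
    hyz.symm
  have hcx : c • x = x := fix_of_commute haN ha1 hac.symm
  have hcz : c ∈ C.A z x := mem_A.2 ⟨(mem_A.1 hc).1, hcx⟩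
  set w := c * n * c⁻¹ * n⁻¹ with hw
  have hwz : w ∈ C.A x z := comm_mem_A hxz hcz hn
  have hwy : w • y = y := by
    have h0 : c • (n • y) = n • y := (mem_A.1 (hzz ▸ hc)).2
    have hwN := comm_mem_N (C := C) hcx hn
    have e : c • (n • y) = n • (w • y) := by
      calc c • (n • y) = (w * n) • (c • y) := by rw [hw, ← mul_smul, ← mul_smul]; congr 1; group
        _ = n • (w • y) := by
          rw [(mem_A.1 hc).2, (C.comm x w hwN n hn).eq, mul_smul]
    exact MulAction.injective n (e.symm.trans h0)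
  have hwA : w ∈ C.A x y := mem_A.2 ⟨(mem_A.1 hwz).1, hwy⟩
  have hbc' : b * c = c * b :=
    (commute_pair hyz (mem_A.2 ⟨hbc.1, hbz⟩) hc).eq
  have hwb : b * w * b⁻¹ = w := by rw [(commute_pair hxy hwA hb).symm.eq, mul_inv_cancel_right]
  refine hbad (fix_of_commute (mem_A.1 hc).1 hc1 (Commute.symm ?_))
  have hnw : c * n * c⁻¹ = w * n := by rw [hw]; group
  have key : c * (b * n * b⁻¹ * n⁻¹) * c⁻¹ = b * n * b⁻¹ * n⁻¹ := by
    calc c * (b * n * b⁻¹ * n⁻¹) * c⁻¹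
        = (c * b) * n * (c * b)⁻¹ * (c * n * c⁻¹)⁻¹ := by group
      _ = (b * c) * n * (b * c)⁻¹ * (c * n * c⁻¹)⁻¹ := by rw [hbc']
      _ = b * (c * n * c⁻¹) * b⁻¹ * (c * n * c⁻¹)⁻¹ := by group
      _ = (b * w * b⁻¹) * (b * n * b⁻¹) * (w * n)⁻¹ := by rw [hnw]; group
      _ = b * n * b⁻¹ * n⁻¹ := by
        rw [hwb, (C.comm x w (mem_A.1 hwz).1 n hn).eq,
          (C.comm x w (mem_A.1 hwz).1 _ (conj_fixed hbx hn)).eq]; group
  exact mul_inv_eq_iff_eq_mul.1 key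

/-! ### Lines -/

variable (C) in
/-- The members of the subgroups fixing two given points. -/
def S (x y : Ω) : Set G := {c | (∃ z, c ∈ C.N z) ∧ c • x = x ∧ c • y = y}

variable (C) in
/-- The line on two points. -/
def L (x y : Ω) : Set Ω := {v | ∀ c ∈ C.S x y, c • v = v}

omit [Finite G] in
theorem left_mem_L (x y : Ω) : x ∈ C.L x y := fun _ hc => hc.2.1

omit [Finite G] in
theorem right_mem_L (x y : Ω) : y ∈ C.L x y := fun _ hc => hc.2.2

theorem card_S_le {g : G} (x y : Ω) : Nat.card (C.S x y) ≤ Nat.card (C.S (g • x) (g • y)) := by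
  refine Nat.card_le_card_of_injective (fun c => (⟨g * c * g⁻¹, ?_, ?_, ?_⟩ :
    C.S (g • x) (g • y))) ?_
  · obtain ⟨z, hz⟩ := c.2.1
    exact ⟨g • z, C.conj g z _ hz⟩
  · simp [mul_smul, c.2.2.1]
  · simp [mul_smul, c.2.2.2]
  · intro a b h
    exact Subtype.ext (mul_left_cancel (mul_right_cancel (congrArg Subtype.val h)))

theorem L_eq {x y v w : Ω} (hxy : x ≠ y) (hv : v ∈ C.L x y) (hw : w ∈ C.L x y) (hvw : v ≠ w) :
    C.L v w = C.L x y := by
  have hsub : C.S x y ⊆ C.S v w := fun c hc => ⟨hc.1, hv c hc, hw c hc⟩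
  obtain ⟨g, rfl, rfl⟩ := C.two x y v w hxy hvw
  have h := card_S_le (C := C) (g := g⁻¹) (g • x) (g • y)
  rw [inv_smul_smul, inv_smul_smul] at h
  have : C.S x y = C.S (g • x) (g • y) :=
    Set.eq_of_subset_of_ncard_le hsub (by simpa [← Nat.card_coe_set_eq] using h) (Set.toFinite _)
  unfold L
  rw [this]

theorem orbit_mem_L {x y : Ω} (hxy : x ≠ y) {n : G} (hn : n ∈ C.N x) : n • y ∈ C.L x y := by
  rintro c ⟨⟨z, hz⟩, hcx, hcy⟩
  by_cases hzx : z = x
  · subst hzx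
    exact fix_orbit (mem_A.2 ⟨hz, hcy⟩) hn
  by_cases hzy : z = y
  · subst hzy
    exact fix_orbit' hxy (mem_A.2 ⟨hz, hcx⟩) hn
  exact fix_third (Ne.symm hzx) hxy hzy (mem_A.2 ⟨hz, hcx⟩) hcy hn

theorem L_orbit {x y : Ω} (hxy : x ≠ y) {n : G} (hn : n ∈ C.N x) :
    C.L x (n • y) = C.L x y := by
  have hne : x ≠ n • y := fun e => hxy (MulAction.injective n ((C.fix x n hn).trans e))
  exact L_eq hxy (left_mem_L x y) (orbit_mem_L hxy hn) hne

/-- Two lines with two common points coincide. -/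
theorem L_eq_of_two {x y x' y' v w : Ω} (h : x ≠ y) (h' : x' ≠ y') (hvw : v ≠ w)
    (hv : v ∈ C.L x y) (hw : w ∈ C.L x y) (hv' : v ∈ C.L x' y') (hw' : w ∈ C.L x' y') :
    C.L x y = C.L x' y' :=
  (L_eq h hv hw hvw).symm.trans (L_eq h' hv' hw' hvw)

end Cfg

end Cfsg.Agent.Perm.ElationTI
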