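import Cfsg.Agent.Lib.Perm.ElationTI.Span
import Cfsg.Agent.Lib.Perm.AxialDesign.Design
import Mathlib.LinearAlgebra.Dimension.StrongRankCondition
import Mathlib.LinearAlgebra.Dimension.Constructions

/-!
The fixed point sets of the non-identity members are the blocks of a symmetric design, so the
stabiliser of one of them is an intransitive subgroup of index the degree.
-/

set_option autoImplicit false

open Finset

namespace Cfsg.Agent.Perm.ElationTI.Cfg

variable {G Ω : Type*} [Group G] [MulAction G Ω] {C : Cfg G Ω} [Finite G] [Fintype Ω]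

open scoped Classical in
/-- The fixed point set. -/
noncomputable def H (g : G) : Finset Ω := Finset.univ.filter fun v => g • v = v

omit [Finite G] in
theorem mem_H {g : G} {v : Ω} : v ∈ H g ↔ g • v = v := by classical simp [H]

omit [Finite G] in
theorem H_conj (g n : G) {v : Ω} : g • v ∈ H (g * n * g⁻¹) ↔ v ∈ H n := by
  simp [mem_H, mul_smul]

omit [Finite G] in
theorem L_subset_H {x : Ω} {n : G} (hn : n ∈ C.N x) {u u' v : Ω} (hu : u ∈ H n) (hu' : u' ∈ H n)
    (hv : v ∈ C.L u u') : v ∈ H n :=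
  mem_H.2 (hv n ⟨⟨x, hn⟩, mem_H.1 hu, mem_H.1 hu'⟩)

/-- Every line meets every fixed point set. -/
theorem meets {x u u' : Ω} {n : G} (hn : n ∈ C.N x) (huu : u ≠ u') :
    ∃ v ∈ C.L u u', v ∈ H n := by
  by_cases hxL : x ∈ C.L u u'
  · exact ⟨x, hxL, mem_H.2 (C.fix x n hn)⟩
  by_cases hu : n • u = u
  · exact ⟨u, left_mem_L _ _, mem_H.2 hu⟩
  have hxu : x ≠ u := fun e => hxL (by rw [e]; exact left_mem_L u u')
  have hxu' : x ≠ u' := fun e => hxL (by rw [e]; exact right_mem_L u u')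
  have hne : C.A x u ≠ C.A x u' := kernel_ne hxu fun h => hxL (by
    rw [← L_eq_of_two hxu huu huu (right_mem_L x u) h (left_mem_L _ _) (right_mem_L _ _)]
    exact left_mem_L x u)
  obtain ⟨n1, hn1, he⟩ := trans_sub hxu hxu' hne hn
  have hn1' := (mem_A.1 hn1).1
  have ha : n * n1⁻¹ ∈ C.A x u := by
    refine mem_A.2 ⟨(C.N x).mul_mem hn ((C.N x).inv_mem hn1'), ?_⟩
    rw [(C.comm x n hn _ ((C.N x).inv_mem hn1')).eq, mul_smul, ← he, inv_smul_smul]
  let φ : C.A u x → C.A x u := fun c => ⟨_, comm_mem_A hxu c.2 hn1'⟩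
  have hφ : Function.Surjective φ := ((Nat.bijective_iff_injective_and_card φ).2
    ⟨fun c c' h => Subtype.ext (comm_inj c.2 c'.2 (by rw [he]; exact hu) (congrArg Subtype.val h)),
      C.card_A hxu.symm hxu⟩).2
  obtain ⟨⟨b, hb⟩, hbe⟩ := hφ ⟨_, ha⟩
  have e : b * n1 * b⁻¹ = n := mul_right_cancel (congrArg Subtype.val hbe)
  refine ⟨b • u', orbit_mem_L huu (mem_A.1 hb).1, mem_H.2 ?_⟩
  rw [← e, mul_smul, mul_smul, inv_smul_smul, (mem_A.1 hn1).2]

/-- Counting a closed set along the lines through one of its points. -/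
theorem card_closed {x z : Ω} {n : G} (hn : n ∈ C.N x) (hz : z ∉ H n) (X : Finset Ω) (hzX : z ∈ X)
    (hX : ∀ u ∈ X, ∀ u' ∈ X, ∀ v ∈ C.L u u', v ∈ X) {a b : Ω} (hab : a ≠ b) :
    open scoped Classical in X.card = 1 + Nat.card (C.orb a b) * (X ∩ H n).card := by
  classical
  have hpt : ∀ u ∈ X.erase z, ∃ v, v ∈ X ∩ H n ∧ v ∈ C.L z u := by
    intro u hu
    obtain ⟨huz, huX⟩ := mem_erase.1 hu
    obtain ⟨v, hv, hvH⟩ := meets (C := C) (u := z) (u' := u) hn (Ne.symm huz)
    exact ⟨v, mem_inter.2 ⟨hX z hzX u huX v hv, hvH⟩, hv⟩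
  choose! f hf hfL using hpt
  have hfib : ∀ v ∈ X ∩ H n,
      ((X.erase z).filter fun u => f u = v).card = Nat.card (C.orb a b) := by
    intro v hv
    obtain ⟨hvX, hvH⟩ := mem_inter.1 hv
    have hzv : z ≠ v := fun e => hz (e ▸ hvH)
    rw [C.card_orb hab hzv, Nat.card_coe_set_eq, ← Set.ncard_coe_finset]
    congr 1
    ext u
    simp only [coe_filter, Set.mem_setOf_eq]
    constructor
    · rintro ⟨hu, rfl⟩
      obtain ⟨huz, huX⟩ := mem_erase.1 hu
      have := L_eq (Ne.symm huz) (left_mem_L z u) (hfL u hu) hzv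
      have hmem : u ∈ C.L z (f u) := this ▸ right_mem_L z u
      exact ((mem_L_iff hzv).1 hmem).resolve_left huz
    · intro hu
      have huz : u ≠ z := fun e => not_mem_orb hzv (e ▸ hu)
      have huL : u ∈ C.L z v := (mem_L_iff hzv).2 (Or.inr hu)
      have huX := hX z hzX v hvX u huL
      have hu' : u ∈ X.erase z := mem_erase.2 ⟨huz, huX⟩
      refine ⟨hu', ?_⟩
      by_contra hne
      have e := L_eq hzv (left_mem_L z v) huL huz.symm
      have h1 : f u ∈ C.L z v := e ▸ hfL u hu'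
      have e2 := L_eq hzv h1 (right_mem_L z v) hne
      exact hz (L_subset_H hn (mem_inter.1 (hf u hu')).2 hvH (e2 ▸ left_mem_L z v))
  rw [← card_erase_add_one hzX,
    card_eq_sum_card_fiberwise (f := f) (t := X ∩ H n) (fun u hu => hf u hu),
    sum_congr rfl hfib, sum_const, smul_eq_mul]
  ring

omit [Finite G] in
theorem exists_not_mem_H {n : G} (C : Cfg G Ω) (hn1 : n ≠ 1) : ∃ z, z ∉ H (Ω := Ω) n := by
  by_contra h
  push Not at h
  exact hn1 (C.faith n fun z => mem_H.1 (h z))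

theorem card_H {x : Ω} {n : G} (hn : n ∈ C.N x) (hn1 : n ≠ 1) {a b : Ω} (hab : a ≠ b) :
    Fintype.card Ω = 1 + Nat.card (C.orb a b) * (H (Ω := Ω) n).card := by
  classical
  obtain ⟨z, hz⟩ := exists_not_mem_H C hn1
  have := card_closed hn hz Finset.univ (mem_univ z) (fun _ _ _ _ v _ => mem_univ v) hab
  rwa [card_univ, univ_inter] at this

/-- Families of sets of equal size with constant smaller intersections are at most as many as the
points. -/
theorem card_family_le {Θ : Type*} [Fintype Θ] [DecidableEq Θ] (𝓑 : Finset (Finset Θ)) (k l : ℕ)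
    (hl : l < k) (hk : ∀ B ∈ 𝓑, B.card = k)
    (hi : ∀ B ∈ 𝓑, ∀ B' ∈ 𝓑, B ≠ B' → (B ∩ B').card = l) : 𝓑.card ≤ Fintype.card Θ := by
  have hli : LinearIndependent ℚ (fun B : 𝓑 => fun u : Θ => if u ∈ B.1 then (1 : ℚ) else 0) := by
    rw [Fintype.linearIndependent_iff]
    intro g hg B0
    have hsum : ∀ B B' : 𝓑, ∑ u : Θ, (if u ∈ B.1 then (1 : ℚ) else 0) * (if u ∈ B'.1 then 1 else 0)
        = ((l : ℚ) + if B = B' then ((k : ℚ) - l) else 0) := by
      intro B B'
      simp only [ite_mul, one_mul, zero_mul, sum_ite_mem, univ_inter]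
      split_ifs with e
      · subst e
        simp [hk _ B.2]
      · simp [hi _ B.2 _ B'.2 fun h => e (Subtype.ext h)]
    have hz : ∀ u : Θ, ∑ B : 𝓑, g B * (if u ∈ B.1 then (1 : ℚ) else 0) = 0 := fun u => by
      simpa using congrFun hg u
    have hQ : (0 : ℚ) = (l : ℚ) * (∑ B : 𝓑, g B) ^ 2 + ((k : ℚ) - l) * ∑ B : 𝓑, g B ^ 2 := by
      calc (0 : ℚ) = ∑ u : Θ, (∑ B : 𝓑, g B * (if u ∈ B.1 then (1 : ℚ) else 0)) *
            (∑ B : 𝓑, g B * (if u ∈ B.1 then (1 : ℚ) else 0)) :=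
          (sum_eq_zero fun u _ => by rw [hz u, zero_mul]).symm
        _ = ∑ B : 𝓑, ∑ B' : 𝓑, g B * g B' *
            ∑ u : Θ, (if u ∈ B.1 then (1 : ℚ) else 0) * (if u ∈ B'.1 then 1 else 0) := by
          simp only [Finset.sum_mul_sum]
          rw [sum_comm]
          refine sum_congr rfl fun B _ => ?_
          rw [sum_comm]
          refine sum_congr rfl fun B' _ => ?_
          rw [mul_sum]
          exact sum_congr rfl fun u _ => by ring
        _ = _ := by
          rw [sum_congr rfl fun B _ => sum_congr rfl fun B' _ => by rw [hsum]]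
          simp only [mul_add, sum_add_distrib, mul_ite, mul_zero, sum_ite_eq, mem_univ, if_true]
          rw [pow_two, Finset.sum_mul_sum, mul_sum, mul_sum]
          congr 1
          · refine sum_congr rfl fun B _ => ?_
            rw [mul_sum]
            exact sum_congr rfl fun B' _ => by ring
          · exact sum_congr rfl fun B _ => by ring
    have hkl : (0 : ℚ) < (k : ℚ) - l := by
      have : (l : ℚ) < k := by exact_mod_cast hl
      linarith
    have hsq : ∑ B : 𝓑, g B ^ 2 = 0 := by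
      have h0 : 0 ≤ ∑ B : 𝓑, g B ^ 2 := sum_nonneg fun _ _ => sq_nonneg _
      have h1 : 0 ≤ (l : ℚ) * (∑ B : 𝓑, g B) ^ 2 := by positivity
      nlinarith
    exact pow_eq_zero_iff two_ne_zero |>.1
      ((sum_eq_zero_iff_of_nonneg fun _ _ => sq_nonneg _).1 hsq B0 (mem_univ _))
  simpa using hli.fintype_card_le_finrank

/-- An intransitive subgroup of index the degree, fixing no point and unfaithful on an orbit. -/
theorem exists_subgroup (C : Cfg G Ω) {x y : Ω} (hxy : x ≠ y) :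
    ∃ K : Subgroup G, K.index = Fintype.card Ω ∧ ¬ MulAction.IsPretransitive K Ω ∧
      (∀ a : Ω, ∃ h : K, h • a ≠ a) ∧
      ∃ a : Ω, ∃ h : K, h ≠ 1 ∧ ∀ b ∈ MulAction.orbit K a, h • b = b := by
  classical
  letI := Fintype.ofFinite G
  obtain ⟨n₀, hn₀, hn₀1, hn₀y⟩ := C.nsr x y hxy
  set B₀ : Finset Ω := H n₀ with hB₀
  set 𝓑 : Finset (Finset Ω) := Finset.univ.image fun g : G => B₀.image (g • ·) with h𝓑
  set s := Nat.card (C.orb x y) with hs
  have h2s : 2 ≤ s := two_le_orb hxy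
  set k := B₀.card with hk
  have hblock : ∀ B ∈ 𝓑, ∃ g : G, B = H (g * n₀ * g⁻¹) := by
    intro B hB
    obtain ⟨g, -, rfl⟩ := mem_image.1 hB
    refine ⟨g, ?_⟩
    ext v
    constructor
    · intro hv
      obtain ⟨w, hw, rfl⟩ := mem_image.1 hv
      exact (H_conj g n₀).2 hw
    · intro hv
      refine mem_image.2 ⟨g⁻¹ • v, ?_, smul_inv_smul g v⟩
      rwa [hB₀, ← H_conj g n₀, smul_inv_smul]
  have hone : ∀ g : G, g * n₀ * g⁻¹ ≠ 1 := fun g e =>
    hn₀1 (by rwa [mul_inv_eq_one, mul_eq_left] at e)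
  have hcardB : ∀ B ∈ 𝓑, B.card = k := by
    intro B hB
    obtain ⟨g, -, rfl⟩ := mem_image.1 hB
    exact card_image_of_injective _ (MulAction.injective g)
  have hn := card_H hn₀ hn₀1 hxy
  rw [← hs, ← hB₀, ← hk] at hn
  have hk2 : 2 ≤ k :=
    one_lt_card.2 ⟨x, mem_H.2 (C.fix x n₀ hn₀), y, mem_H.2 hn₀y, hxy⟩
  have hkn : k < Fintype.card Ω := by rw [hn]; nlinarith
  have hint : ∀ B ∈ 𝓑, ∀ B' ∈ 𝓑, B ≠ B' → 1 + s * (B ∩ B').card = k ∧ (B ∩ B').card < k := by
    intro B hB B' hB' hne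
    obtain ⟨g, hg⟩ := hblock B hB
    obtain ⟨g', hg'⟩ := hblock B' hB'
    have hsub : ¬ B' ⊆ B := fun h => hne
      (eq_of_subset_of_card_le h (by rw [hcardB B hB, hcardB B' hB'])).symm
    obtain ⟨z, hzB', hzB⟩ := not_subset.1 hsub
    have hcl : ∀ u ∈ B', ∀ u' ∈ B', ∀ v ∈ C.L u u', v ∈ B' := fun u hu u' hu' v hv => by
      rw [hg'] at hu hu' ⊢
      exact L_subset_H (C.conj g' x n₀ hn₀) hu hu' hv
    have h := card_closed (C := C) (C.conj g x n₀ hn₀) (hg ▸ hzB) B' hzB' hcl hxy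
    rw [hcardB B' hB', ← hs, ← hg, inter_comm] at h
    refine ⟨h.symm, ?_⟩
    nlinarith
  have hl : ∃ l, l < k ∧ ∀ B ∈ 𝓑, ∀ B' ∈ 𝓑, B ≠ B' → (B ∩ B').card = l := by
    by_cases hex : ∃ B ∈ 𝓑, ∃ B' ∈ 𝓑, B ≠ B'
    · obtain ⟨B, hB, B', hB', hne⟩ := hex
      refine ⟨_, (hint B hB B' hB' hne).2, fun D hD D' hD' hne' => ?_⟩
      have e := (hint D hD D' hD' hne').1.trans (hint B hB B' hB' hne).1.symm
      exact Nat.eq_of_mul_eq_mul_left (by omega) (Nat.add_left_cancel e)
    · push Not at hex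
      exact ⟨0, by omega, fun B hB B' hB' hne => absurd (hex B hB B' hB') hne⟩
  obtain ⟨l, hlk, hinter⟩ := hl
  have hle := card_family_le 𝓑 k l hlk hcardB hinter
  have hsmul : ∀ g : G, ∀ B ∈ 𝓑, B.image (g • ·) ∈ 𝓑 := by
    intro g B hB
    obtain ⟨g', -, rfl⟩ := mem_image.1 hB
    refine mem_image.2 ⟨g * g', mem_univ _, ?_⟩
    rw [image_image]
    exact image_congr fun v _ => mul_smul g g' v
  let P : Ω → Ω → ℕ := fun p q => (𝓑.filter fun B => p ∈ B ∧ q ∈ B).card
  have hP : ∀ (g : G) (p q : Ω), P p q ≤ P (g • p) (g • q) := by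
    intro g p q
    refine card_le_card_of_injOn (fun B => B.image (g • ·)) ?_ ?_
    · intro B hB
      simp only [coe_filter, Set.mem_setOf_eq] at hB ⊢
      exact ⟨hsmul g B hB.1, mem_image_of_mem _ hB.2.1, mem_image_of_mem _ hB.2.2⟩
    · exact fun B _ B' _ e => Finset.image_injective (MulAction.injective g) e
  have hpair : ∀ p q : Ω, p ≠ q → P p q = P x y := by
    intro p q hpq
    obtain ⟨g, rfl, rfl⟩ := C.two x y p q hxy hpq
    exact le_antisymm (by simpa using hP g⁻¹ (g • x) (g • y)) (hP g x y)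
  let D : AxialDesign.Des Ω :=
    { blocks := 𝓑, k := k, l := P x y, card_block := hcardB, pair := hpair, two_le := hk2
      k_lt := hkn, nonempty := ⟨_, mem_image_of_mem _ (mem_univ 1)⟩, card_le := hle }
  have hcard : 𝓑.card = Fintype.card Ω := D.card_blocks
  let K : Subgroup G :=
    { carrier := {g | B₀.image (g • ·) = B₀}
      one_mem' := by simp
      mul_mem' := fun {a b} ha hb => by
        simp only [Set.mem_setOf_eq] at ha hb ⊢
        conv_rhs => rw [← ha, ← hb, image_image]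
        exact image_congr fun v _ => mul_smul a b v
      inv_mem' := fun {a} ha => by
        simp only [Set.mem_setOf_eq] at ha ⊢
        conv_lhs => rw [← ha, image_image]
        simp [Function.comp_def] }
  have hKH : ∀ g ∈ K, ∀ v : Ω, v ∈ B₀ → g • v ∈ B₀ := fun g hg v hv => by
    have hg' : B₀.image (g • ·) = B₀ := hg
    rw [← hg']
    exact mem_image_of_mem _ hv
  have hidx : K.index = Fintype.card Ω := by
    rw [← hcard, Subgroup.index, ← Nat.card_eq_finsetCard]
    have hwd : ∀ a b : G, a⁻¹ * b ∈ K → B₀.image (a • ·) = B₀.image (b • ·) := fun a b hab => by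
      have hab' : B₀.image ((a⁻¹ * b) • ·) = B₀ := hab
      conv_lhs => rw [← hab', image_image]
      exact image_congr fun v _ => by simp [mul_smul]
    refine Nat.card_eq_of_bijective (fun c => Quotient.liftOn' c
      (fun g => (⟨B₀.image (g • ·), mem_image_of_mem _ (mem_univ g)⟩ : 𝓑))
      (fun a b hab => Subtype.ext (hwd a b (QuotientGroup.leftRel_apply.1 hab)))) ⟨?_, ?_⟩
    · intro c c' he
      induction c using QuotientGroup.induction_on with
      | H a => induction c' using QuotientGroup.induction_on with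
        | H b =>
          have he' : B₀.image (a • ·) = B₀.image (b • ·) := congrArg Subtype.val he
          refine QuotientGroup.eq.2 (show B₀.image ((a⁻¹ * b) • ·) = B₀ from ?_)
          conv_rhs => rw [show B₀ = (B₀.image (a • ·)).image (a⁻¹ • ·) by
            simp [image_image, Function.comp_def]]
          rw [he', image_image]
          exact image_congr fun v _ => mul_smul a⁻¹ b v
    · rintro ⟨B, hB⟩
      obtain ⟨g, -, rfl⟩ := mem_image.1 hB
      exact ⟨QuotientGroup.mk g, rfl⟩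
  have hxB : x ∈ B₀ := mem_H.2 (C.fix x n₀ hn₀)
  obtain ⟨z, hz⟩ := exists_not_mem_H C hn₀1
  refine ⟨K, hidx, ?_, ?_, ?_⟩
  · intro htr
    obtain ⟨g, hg⟩ := htr.exists_smul_eq x z
    exact hz (hg ▸ hKH g g.2 x hxB)
  · intro a
    by_contra hall
    push Not at hall
    have hKle : K ≤ MulAction.stabilizer G a := fun g hg =>
      MulAction.mem_stabilizer_iff.2 (hall ⟨g, hg⟩)
    haveI : MulAction.IsPretransitive G Ω := ⟨fun u v => by
      obtain ⟨u', hu'⟩ : ∃ u', u ≠ u' := (em (u = x)).elim (fun e => ⟨y, e ▸ hxy⟩) (fun e => ⟨x, e⟩)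
      obtain ⟨v', hv'⟩ : ∃ v', v ≠ v' := (em (v = x)).elim (fun e => ⟨y, e ▸ hxy⟩) (fun e => ⟨x, e⟩)
      obtain ⟨g, hg, -⟩ := C.two u u' v v' hu' hv'
      exact ⟨g, hg⟩⟩
    have hKeq : K = MulAction.stabilizer G a := by
      refine Subgroup.eq_of_le_of_card_ge hKle ?_
      have h1 := K.card_mul_index
      have h2 := (MulAction.stabilizer G a).card_mul_index
      rw [MulAction.index_stabilizer_of_transitive, Nat.card_eq_fintype_card (α := Ω)] at h2
      rw [hidx, ← h2] at h1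
      exact (Nat.eq_of_mul_eq_mul_right (by omega) h1).ge
    have hst : ∀ u v : Ω, u ≠ a → v ≠ a → u ∈ B₀ → v ∈ B₀ := by
      intro u v hu hv hub
      obtain ⟨g, hga, hgu⟩ := C.two a u a v hu.symm hv.symm
      exact hgu ▸ hKH g (hKeq ▸ hga) u hub
    obtain ⟨u, hub, hua⟩ : ∃ u ∈ B₀, u ≠ a := exists_mem_ne (by omega) a
    have huniv : Finset.univ.erase a ⊆ B₀ := fun v hv => hst u v hua (ne_of_mem_erase hv) hub
    have := card_le_card huniv
    rw [card_erase_of_mem (mem_univ a), card_univ, ← hk] at this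
    rw [hn] at this
    nlinarith [Nat.sub_add_cancel (show 1 ≤ 1 + s * k by omega)]
  · have hnK : n₀ ∈ K := by
      show B₀.image (n₀ • ·) = B₀
      conv_rhs => rw [← image_id (s := B₀)]
      exact image_congr fun v hv => mem_H.1 hv
    refine ⟨x, ⟨n₀, hnK⟩, fun e => hn₀1 (congrArg Subtype.val e), ?_⟩
    rintro _ ⟨g, rfl⟩
    exact mem_H.1 (hKH g g.2 x hxB)

end Cfsg.Agent.Perm.ElationTI.Cfg
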