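import Cfsg.Agent.Lib.Perm.ElationTI.Basic
import Mathlib.Algebra.Order.BigOperators.Group.Finset

/-!
Lines through a point are the orbits of its abelian subgroup: two different kernels on the orbits
span the subgroup, and two orbits never have the same kernel.
-/

set_option autoImplicit false

namespace Cfsg.Agent.Perm.ElationTI.Cfg

variable {G Ω : Type*} [Group G] [MulAction G Ω] {C : Cfg G Ω}

/-- The orbit of `y` under the subgroup at `x`. -/
def orb (C : Cfg G Ω) (x y : Ω) : Set Ω := (fun n => n • y) '' (C.N x : Set G)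

theorem mem_orb {x y v : Ω} : v ∈ C.orb x y ↔ ∃ n ∈ C.N x, n • y = v := Iff.rfl

theorem self_mem_orb (x y : Ω) : y ∈ C.orb x y := ⟨1, one_mem _, one_smul _ _⟩

theorem not_mem_orb {x y : Ω} (h : x ≠ y) : x ∉ C.orb x y := by
  rintro ⟨n, hn, e⟩
  exact h (MulAction.injective n ((C.fix x n hn).trans e.symm))

variable [Finite G]

theorem card_orb_le {g : G} (x y : Ω) :
    Nat.card (C.orb x y) ≤ Nat.card (C.orb (g • x) (g • y)) := by
  haveI : Finite (C.orb (g • x) (g • y)) := ((Set.toFinite _).image _).to_subtype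
  refine Nat.card_le_card_of_injective (fun v => (⟨g • v.1, ?_⟩ : C.orb (g • x) (g • y))) ?_
  · obtain ⟨v, n, hn, rfl⟩ := v
    exact ⟨g * n * g⁻¹, C.conj g x n hn, by simp [mul_smul]⟩
  · intro a b h
    exact Subtype.ext (MulAction.injective g (congrArg Subtype.val h))

variable (C) in
theorem card_orb {x y x' y' : Ω} (h : x ≠ y) (h' : x' ≠ y') :
    Nat.card (C.orb x y) = Nat.card (C.orb x' y') := by
  obtain ⟨g, rfl, rfl⟩ := C.two x y x' y' h h'
  refine le_antisymm (card_orb_le x y) ?_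
  simpa using card_orb_le (C := C) (g := g⁻¹) (g • x) (g • y)

theorem exists_move {x y : Ω} (hxy : x ≠ y) : ∃ n ∈ C.N x, n • y ≠ y := by
  by_contra h
  push Not at h
  obtain ⟨n, hn, hn1, -⟩ := C.nsr x y hxy
  refine hn1 (C.faith n fun w => ?_)
  by_cases hw : x = w
  · subst hw; exact C.fix x n hn
  obtain ⟨g, hgx, hgy⟩ := C.two x y x w hxy hw
  have := h (g⁻¹ * n * g⁻¹⁻¹) (conj_fixed (inv_fix hgx) hn)
  rw [inv_inv, mul_smul, mul_smul, hgy, inv_smul_eq_iff] at this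
  rw [this, hgy]

theorem two_le_orb {x y : Ω} (hxy : x ≠ y) : 2 ≤ Nat.card (C.orb x y) := by
  obtain ⟨n, hn, hne⟩ := exists_move (C := C) hxy
  haveI : Finite (C.orb x y) := ((Set.toFinite _).image _).to_subtype
  exact Finite.one_lt_card_iff_nontrivial.2
    ⟨⟨n • y, n, hn, rfl⟩, ⟨y, self_mem_orb x y⟩, fun e => hne (congrArg Subtype.val e)⟩

/-- The displaced member at the moved point. -/
theorem move_mem {x y : Ω} (hxy : x ≠ y) {b n : G} (hb : b ∈ C.A y x) (hn : n ∈ C.N x) :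
    (b * n * b⁻¹ * n⁻¹)⁻¹ * b ∈ C.N (n • y) := by
  set d := b * n * b⁻¹ * n⁻¹ with hd
  have hdA : d ∈ C.A x y := comm_mem_A hxy hb hn
  have hdn : d * n = n * d := (C.comm x d (mem_A.1 hdA).1 n hn).eq
  have hdb : d * b = b * d := (commute_pair hxy hdA hb).eq
  have e1 : b * n = n * d * b := by rw [← hdn, hd]; group
  have e : n * b * n⁻¹ = d⁻¹ * b := by
    calc n * b * n⁻¹ = n * (d * b) * d⁻¹ * n⁻¹ := by rw [hdb]; group
      _ = (b * n) * (n * d)⁻¹ := by rw [e1]; group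
      _ = b * (n * (d * n)⁻¹) := by rw [← hdn]; group
      _ = b * d⁻¹ := by group
      _ = d⁻¹ * b := (commute_pair hxy ((C.A x y).inv_mem hdA) hb).eq.symm
  exact e ▸ C.conj n y b (mem_A.1 hb).1

/-- The same kernel from `x` gives the same kernel from `y`. -/
theorem kernel_symm {x y v : Ω} (hxy : x ≠ y) (hxv : x ≠ v) (hyv : y ≠ v)
    (h : C.A x v = C.A x y) : C.A y x = C.A y v := by
  refine A_eq_of_le hxy.symm hyv fun b hb => mem_A.2 ⟨(mem_A.1 hb).1, ?_⟩
  by_contra hbv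
  obtain ⟨n, hn, hne⟩ := exists_move (C := C) hxy
  set d := b * n * b⁻¹ * n⁻¹ with hd
  have hdA : d ∈ C.A x y := comm_mem_A hxy hb hn
  have hd' : (d⁻¹ * b) • v = b • v := by
    rw [(commute_pair hxy ((C.A x y).inv_mem hdA) hb).eq, mul_smul]
    have : d⁻¹ • v = v := inv_fix (mem_A.1 (h ▸ hdA : d ∈ C.A x v)).2
    rw [this]
  have hnyv : n • y ≠ v := fun e => hbv (e ▸ fix_orbit' hxy hb hn)
  have h1 : b • v ∈ C.L y v := orbit_mem_L hyv (mem_A.1 hb).1
  have h2 : b • v ∈ C.L (n • y) v := hd' ▸ orbit_mem_L hnyv (move_mem hxy hb hn)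
  have e1 := L_eq_of_two hyv hnyv hbv h1 (right_mem_L y v) h2 (right_mem_L _ v)
  have hny : n • y ∈ C.L y v := e1 ▸ left_mem_L _ _
  have e2 := L_eq_of_two hyv hxy hne hny (left_mem_L y v) (orbit_mem_L hxy hn) (right_mem_L x y)
  exact hbv ((e2 ▸ right_mem_L y v : v ∈ C.L x y) b
    ⟨⟨y, (mem_A.1 hb).1⟩, (mem_A.1 hb).2, C.fix y b (mem_A.1 hb).1⟩)

theorem card_orb_le_sub {x y z : Ω} (hxy : x ≠ y) (hxz : x ≠ z) (hne : C.A x y ≠ C.A x z) :
    Nat.card (C.orb x y) ≤ Nat.card ((fun a => a • z) '' (C.A x y : Set G) : Set Ω) := by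
  classical
  have hyz : y ≠ z := by rintro rfl; exact hne rfl
  obtain ⟨b, hb, hbz⟩ : ∃ b ∈ C.A y x, b • z ≠ z := by
    by_contra hall
    push Not at hall
    exact hne (kernel_symm hxy.symm hyz hxz
      (A_eq_of_le hxy.symm hyz fun b hb => mem_A.2 ⟨(mem_A.1 hb).1, hall b hb⟩).symm)
  have hex : ∀ v : C.orb x y, ∃ n ∈ C.N x, n • y = v.1 := fun v => v.2
  choose f hfN hf using hex
  haveI : Finite ((fun a => a • z) '' (C.A x y : Set G) : Set Ω) :=
    ((Set.toFinite _).image _).to_subtype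
  refine Nat.card_le_card_of_injective (fun v => (⟨(b * f v * b⁻¹ * (f v)⁻¹) • z,
    _, comm_mem_A hxy hb (hfN v), rfl⟩ : ((fun a => a • z) '' (C.A x y : Set G) : Set Ω))) ?_
  intro v v' hvv
  have hvv' := congrArg Subtype.val hvv
  simp only at hvv'
  apply Subtype.ext
  rw [← hf v, ← hf v']
  set n := (f v')⁻¹ * f v with hn
  have hnN : n ∈ C.N x := (C.N x).mul_mem ((C.N x).inv_mem (hfN v')) (hfN v)
  suffices hny : n • y = y by
    rw [hn, mul_smul, inv_smul_eq_iff] at hny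
    exact hny
  by_contra hny
  have hcomm : b * n * b⁻¹ * n⁻¹
      = (b * f v' * b⁻¹ * (f v')⁻¹)⁻¹ * (b * f v * b⁻¹ * (f v)⁻¹) := by
    have c1 := C.comm x _ (conj_fixed (mem_A.1 hb).2 (hfN v)) (f v') (hfN v')
    have c2 := C.comm x (f v) (hfN v) (f v') (hfN v')
    calc b * n * b⁻¹ * n⁻¹ = (b * f v' * b⁻¹)⁻¹ * (b * f v * b⁻¹) * (f v)⁻¹ * f v' := by
          rw [hn]; group
      _ = (b * f v' * b⁻¹)⁻¹ * ((b * f v * b⁻¹) * f v') * (f v)⁻¹ := by
          rw [mul_assoc _ (f v)⁻¹ (f v'), c2.inv_left.eq]; group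
      _ = (b * f v' * b⁻¹)⁻¹ * (f v' * (b * f v * b⁻¹)) * (f v)⁻¹ := by rw [c1.eq]
      _ = _ := by
          rw [show (b * f v' * b⁻¹ * (f v')⁻¹)⁻¹ = f v' * (b * f v' * b⁻¹)⁻¹ by group,
            (C.comm x (f v') (hfN v') _
              ((C.N x).inv_mem (conj_fixed (mem_A.1 hb).2 (hfN v')))).eq]
          group
  have hdz : (b * n * b⁻¹ * n⁻¹) • z = z := by
    rw [hcomm, mul_smul, hvv', inv_smul_smul]
  set d := b * n * b⁻¹ * n⁻¹ with hd
  have hdA : d ∈ C.A x y := comm_mem_A hxy hb hnN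
  have hd' : (d⁻¹ * b) • z = b • z := by
    rw [(commute_pair hxy ((C.A x y).inv_mem hdA) hb).eq, mul_smul]
    have : d⁻¹ • z = z := inv_fix hdz
    rw [this]
  have hnyz : n • y ≠ z := fun e => hne (e ▸ A_orbit hxy hnN)
  have h1 : b • z ∈ C.L y z := orbit_mem_L hyz (mem_A.1 hb).1
  have h2 : b • z ∈ C.L (n • y) z := hd' ▸ orbit_mem_L hnyz (move_mem hxy hb hnN)
  have e1 := L_eq_of_two hyz hnyz hbz h1 (right_mem_L y z) h2 (right_mem_L _ z)
  have hmem : n • y ∈ C.L y z := e1 ▸ left_mem_L _ _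
  have e2 := L_eq_of_two hyz hxy hny hmem (left_mem_L y z) (orbit_mem_L hxy hnN) (right_mem_L x y)
  exact hbz ((e2 ▸ right_mem_L y z : z ∈ C.L x y) b
    ⟨⟨y, (mem_A.1 hb).1⟩, (mem_A.1 hb).2, C.fix y b (mem_A.1 hb).1⟩)

/-- Different kernels span the subgroup. -/
theorem trans_sub {x y z : Ω} (hxy : x ≠ y) (hxz : x ≠ z) (hne : C.A x y ≠ C.A x z) {n : G}
    (hn : n ∈ C.N x) : ∃ a ∈ C.A x z, a • y = n • y := by
  have hsub : (fun a => a • y) '' (C.A x z : Set G) ⊆ C.orb x y := by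
    rintro _ ⟨a, ha, rfl⟩
    exact ⟨a, (mem_A.1 ha).1, rfl⟩
  have hcard := card_orb_le_sub (C := C) hxz hxy (Ne.symm hne)
  rw [C.card_orb hxz hxy] at hcard
  have heq := Set.eq_of_subset_of_ncard_le hsub
    (by simpa [← Nat.card_coe_set_eq] using hcard) ((Set.toFinite _).image _)
  obtain ⟨a, ha, e⟩ : n • y ∈ (fun a => a • y) '' (C.A x z : Set G) :=
    heq.symm ▸ ⟨n, hn, rfl⟩
  exact ⟨a, ha, e⟩

/-- A kernel is determined by the common part with another and one further element. -/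
theorem kernel_determined {x y z w : Ω} (hxy : x ≠ y) (hxz : x ≠ z) (hxw : x ≠ w)
    (hne : C.A x y ≠ C.A x z) {n : G} (hnz : n ∈ C.A x z) (hny : n • y ≠ y) (hnw : n • w = w)
    (hle : ∀ a ∈ C.A x z, a • y = y → a • w = w) : C.A x z = C.A x w := by
  classical
  by_contra hzw
  haveI : Finite (C.orb x y) := ((Set.toFinite _).image _).to_subtype
  have hsurj : ∀ v : C.orb x w, ∃ u : C.orb x y, ∃ a ∈ C.A x z, a • y = u.1 ∧ a • w = v.1 := by
    rintro ⟨_, m, hm, rfl⟩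
    obtain ⟨a, ha, he⟩ := trans_sub hxw hxz (Ne.symm hzw) hm
    exact ⟨⟨a • y, a, (mem_A.1 ha).1, rfl⟩, a, ha, rfl, he⟩
  choose f a haA hay haw using hsurj
  have hinj : Function.Injective f := by
    intro v v' h
    apply Subtype.ext
    rw [← haw v, ← haw v']
    have e : ((a v')⁻¹ * a v) • y = y := by
      rw [mul_smul, hay, h, ← hay, inv_smul_smul]
    have := hle _ ((C.A x z).mul_mem ((C.A x z).inv_mem (haA v')) (haA v)) e
    rwa [mul_smul, inv_smul_eq_iff] at this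
  haveI : Finite (C.orb x w) := ((Set.toFinite _).image _).to_subtype
  have hbij := (Nat.bijective_iff_injective_and_card f).2 ⟨hinj, C.card_orb hxw hxy⟩
  obtain ⟨v, hv⟩ := hbij.2 ⟨n • y, n, (mem_A.1 hnz).1, rfl⟩
  obtain ⟨v0, hv0⟩ := hbij.2 ⟨y, self_mem_orb x y⟩
  have e1 : (n⁻¹ * a v) • y = y := by rw [mul_smul, hay, hv, inv_smul_smul]
  have e1' := hle _ ((C.A x z).mul_mem ((C.A x z).inv_mem hnz) (haA v)) e1
  rw [mul_smul, haw, inv_smul_eq_iff, hnw] at e1'
  have e2 : (a v0) • y = y := by rw [hay, hv0]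
  have e2' := hle _ (haA v0) e2
  rw [haw] at e2'
  have : v = v0 := Subtype.ext (e1'.trans e2'.symm)
  exact hny (congrArg Subtype.val ((this ▸ hv : f v0 = _).symm.trans hv0))

/-- Two orbits of the subgroup at a point never have the same kernel. -/
theorem mem_orb_of_kernel [Finite Ω] {x y v : Ω} (hxy : x ≠ y) (hxv : x ≠ v)
    (h : C.A x v = C.A x y) : v ∈ C.orb x y := by
  classical
  letI := Fintype.ofFinite Ω
  by_contra hv
  set P : Finset Ω := Finset.univ.filter fun u => u = x ∨ C.A x u = C.A x y with hP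
  have hxP : x ∈ P := by simp [hP]
  have hyP : y ∈ P := by simp [hP]
  have hmemP : ∀ {u}, u ∈ P → u ≠ x → C.A x u = C.A x y := fun {u} hu hne =>
    (Finset.mem_filter.1 hu).2.resolve_left hne
  have key : ∀ {u u' u'' : Ω}, u ∈ P → u' ∈ P → u'' ∈ P → u ≠ u' → u ≠ u'' →
      C.A u u' = C.A u u'' := by
    intro u u' u'' hu hu' hu'' h1 h2
    by_cases hux : u = x
    · subst hux
      rw [hmemP hu' h1.symm, hmemP hu'' h2.symm]
    have aux : ∀ t ∈ P, u ≠ t → C.A u t = C.A u x := by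
      intro t ht htu
      by_cases htx : t = x
      · rw [htx]
      exact (kernel_symm (Ne.symm hux) (Ne.symm htx) htu
        ((hmemP ht htx).trans (hmemP hu hux).symm)).symm
    rw [aux u' hu' h1, aux u'' hu'' h2]
  let 𝒮 : Set G := {c | ∃ u ∈ P, ∃ u' ∈ P, u ≠ u' ∧ c ∈ C.A u u'}
  have hfixP : ∀ c ∈ 𝒮, ∀ t ∈ P, c • t = t := by
    rintro c ⟨u, hu, u', hu', huu, hc⟩ t ht
    by_cases htu : u = t
    · subst htu; exact C.fix u c (mem_A.1 hc).1
    exact (mem_A.1 (key hu hu' ht huu htu ▸ hc)).2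
  have hcomm : ∀ c ∈ 𝒮, ∀ c' ∈ 𝒮, Commute c c' := by
    rintro c ⟨u, hu, u', hu', huu, hc⟩ c' ⟨t, ht, t', ht', htt, hc'⟩
    by_cases hut : u = t
    · subst hut; exact C.comm u c (mem_A.1 hc).1 c' (mem_A.1 hc').1
    exact commute_pair hut (key hu hu' ht huu hut ▸ hc) (key ht ht' hu htt (Ne.symm hut) ▸ hc')
  set W : Subgroup G := Subgroup.closure 𝒮 with hW
  have hWc : ∀ g ∈ W, ∀ c ∈ W, g * c = c * g := by
    have h1 : W ≤ Subgroup.centralizer 𝒮 := (Subgroup.closure_le _).2 fun g hg =>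
      Subgroup.mem_centralizer_iff.2 fun c hc => (hcomm c hc g hg).eq
    intro g hg c hc
    have h2 : W ≤ Subgroup.centralizer ({g} : Set G) := (Subgroup.closure_le _).2 fun d hd =>
      Subgroup.mem_centralizer_iff.2 fun e he => by
        rw [Set.mem_singleton_iff] at he
        subst he
        exact (Subgroup.mem_centralizer_iff.1 (h1 hg) d hd).symm
    exact Subgroup.mem_centralizer_iff.1 (h2 hc) g rfl
  have hWfix : ∀ g ∈ W, ∀ t ∈ P, g • t = t := fun g hg t ht =>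
    MulAction.mem_stabilizer_iff.1 ((Subgroup.closure_le _).2
      (fun c hc => MulAction.mem_stabilizer_iff.2 (hfixP c hc t ht)) hg)
  have hWL : ∀ g ∈ W, ∀ t ∈ P, ∀ t' ∈ P, t ≠ t' → ∀ m ∈ C.N t, g • (m • t') = m • t' := by
    intro g hg t ht t' ht' htt m hm
    refine MulAction.mem_stabilizer_iff.1 ((Subgroup.closure_le _).2 (fun c hc => ?_) hg)
    refine MulAction.mem_stabilizer_iff.2 (orbit_mem_L htt hm c ⟨?_, hfixP c hc t ht, hfixP c hc t' ht'⟩)
    obtain ⟨u, -, u', -, -, hcA⟩ := hc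
    exact ⟨u, (mem_A.1 hcA).1⟩
  obtain ⟨a₀, ha₀, ha₀1, ha₀y⟩ := C.nsr x y hxy
  obtain ⟨w, hw⟩ : ∃ w, a₀ • w ≠ w := by
    by_contra hall
    push Not at hall
    exact ha₀1 (C.faith a₀ hall)
  have ha₀A : a₀ ∈ C.A x y := mem_A.2 ⟨ha₀, ha₀y⟩
  have hwP : w ∉ P := fun hwP => hw (hfixP a₀ ⟨x, hxP, y, hyP, hxy, ha₀A⟩ w hwP)
  have hne : ∀ t ∈ P, ∀ t' ∈ P, t ≠ t' → C.A t w ≠ C.A t t' := by
    intro t ht t' ht' htt he
    have htw : t ≠ w := fun e => hwP (e ▸ ht)
    have hxw : x ≠ w := fun e => hwP (e ▸ hxP)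
    refine hwP (Finset.mem_filter.2 ⟨Finset.mem_univ _, Or.inr ?_⟩)
    by_cases htx : t = x
    · subst htx; rw [he, hmemP ht' htt.symm]
    have := kernel_symm (C := C) htx htw hxw (he.trans (key ht ht' hxP htt htx))
    rw [← this, hmemP ht htx]
  set W' : Finset Ω := Finset.univ.filter fun u => ∃ g ∈ W, g • w = u with hW'
  set s := Nat.card (C.orb x y) with hs
  let Q : Ω → Finset Ω := fun t => W'.filter fun u => C.A t u = C.A t w
  have hwW : w ∈ W' := by simp only [hW', Finset.mem_filter, Finset.mem_univ, true_and]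
                          exact ⟨1, one_mem _, one_smul _ _⟩
  have hother : ∀ t ∈ P, ∃ t' ∈ P, t ≠ t' := by
    intro t ht
    by_cases htx : t = x
    · exact ⟨y, hyP, htx ▸ hxy⟩
    · exact ⟨x, hxP, htx⟩
  have hQlow : ∀ t ∈ P, s ≤ (Q t).card := by
    intro t ht
    obtain ⟨t', ht', htt⟩ := hother t ht
    have htw : t ≠ w := fun e => hwP (e ▸ ht)
    rw [hs, C.card_orb hxy htw, Nat.card_coe_set_eq, ← Set.ncard_coe_finset]
    refine Set.ncard_le_ncard ?_ (Finset.finite_toSet _)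
    rintro _ ⟨m, hm, rfl⟩
    obtain ⟨a, ha, he⟩ := trans_sub htw htt (hne t ht t' ht' htt) hm
    simp only [Q, Finset.coe_filter, Set.mem_setOf_eq, hW', Finset.mem_filter, Finset.mem_univ,
      true_and]
    exact ⟨⟨a, Subgroup.subset_closure ⟨t, ht, t', ht', htt, ha⟩, he⟩, (A_orbit htw hm).symm⟩
  have hQup : ∀ t ∈ P, W'.card ≤ s * (Q t).card := by
    intro t ht
    obtain ⟨t', ht', htt⟩ := hother t ht
    have htw : t ≠ w := fun e => hwP (e ▸ ht)
    have ht'w : t' ≠ w := fun e => hwP (e ▸ ht')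
    obtain ⟨n1, hn1, hn1'⟩ := SetLike.not_le_iff_exists.1
      (fun hle : C.A t w ≤ C.A t t' => hne t ht t' ht' htt (A_eq_of_le htw htt hle))
    have hn1t : n1 • t' ≠ t' := fun e => hn1' (mem_A.2 ⟨(mem_A.1 hn1).1, e⟩)
    let φ : C.A t' t → C.A t t' := fun c => ⟨_, comm_mem_A htt c.2 (mem_A.1 hn1).1⟩
    have hφ : Function.Surjective φ := ((Nat.bijective_iff_injective_and_card φ).2
      ⟨fun c c' h => Subtype.ext (comm_inj c.2 c'.2 hn1t (congrArg Subtype.val h)),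
        C.card_A htt.symm htt⟩).2
    have hdec : ∀ u : W', ∃ (b : G) (q : Ω), b ∈ C.A t' t ∧ q ∈ Q t ∧
        ∃ k ∈ W, k • w = q ∧ u.1 = b • q := by
      rintro ⟨u, hu⟩
      obtain ⟨g, hg, rfl⟩ := (Finset.mem_filter.1 hu).2
      have hu' : g * n1 * g⁻¹ * n1⁻¹ ∈ C.A t t' := by
        refine mem_A.2 ⟨comm_mem_N (hWfix g hg t ht) (mem_A.1 hn1).1, ?_⟩
        have e := hWL g⁻¹ (W.inv_mem hg) t ht t' ht' htt n1⁻¹ ((C.N t).inv_mem (mem_A.1 hn1).1)
        rw [mul_smul, mul_smul, mul_smul, e, smul_inv_smul, hWfix g hg t' ht']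
      obtain ⟨⟨b, hb⟩, hbe⟩ := hφ ⟨_, hu'⟩
      have hbW : b ∈ W := Subgroup.subset_closure ⟨t', ht', t, ht, htt.symm, hb⟩
      have hk : b⁻¹ * g ∈ W := W.mul_mem (W.inv_mem hbW) hg
      refine ⟨b, (b⁻¹ * g) • w, hb, ?_, _, hk, rfl, by rw [mul_smul, smul_inv_smul]⟩
      simp only [Q, Finset.mem_filter, hW', Finset.mem_univ, true_and]
      refine ⟨⟨_, hk, rfl⟩, (kernel_determined htt htw ?_ (Ne.symm (hne t ht t' ht' htt))
        hn1 hn1t ?_ ?_).symm⟩
      · intro e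
        have : (b⁻¹ * g) • t = t := hWfix _ hk t ht
        exact htw (MulAction.injective (b⁻¹ * g) (this.trans e))
      · have e0 : b * n1 * b⁻¹ = g * n1 * g⁻¹ := mul_right_cancel (congrArg Subtype.val hbe)
        have e1 : n1 * (b⁻¹ * g) = (b⁻¹ * g) * n1 := by
          calc n1 * (b⁻¹ * g) = b⁻¹ * (b * n1 * b⁻¹) * g := by group
            _ = b⁻¹ * (g * n1 * g⁻¹) * g := by rw [e0]
            _ = (b⁻¹ * g) * n1 := by group
        rw [← mul_smul, e1, mul_smul, (mem_A.1 hn1).2]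
      · intro a ha hat
        have haW : a ∈ W := Subgroup.subset_closure
          ⟨t, ht, t', ht', htt, mem_A.2 ⟨(mem_A.1 ha).1, hat⟩⟩
        rw [← mul_smul, hWc a haW _ hk, mul_smul, (mem_A.1 ha).2]
    choose b q hb hq k hk hkq hu using hdec
    haveI : Finite (C.orb t' w) := ((Set.toFinite _).image _).to_subtype
    have hinj : Function.Injective
        (fun u => ((⟨b u • w, b u, (mem_A.1 (hb u)).1, rfl⟩ : C.orb t' w), (⟨q u, hq u⟩ : Q t))) := by
      intro u u' he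
      have he1 : b u • w = b u' • w := congrArg (fun z => z.1.1) he
      have he2 : q u = q u' := congrArg (fun z => z.2.1) he
      have hbk : ∀ i, b i • q i = k i • (b i • w) := fun i => by
        rw [← hkq i, ← mul_smul, hWc _ (Subgroup.subset_closure ⟨t', ht', t, ht, htt.symm, hb i⟩)
          _ (hk i), mul_smul]
      apply Subtype.ext
      rw [hu u, hu u']
      calc b u • q u = k u • (b u' • w) := by rw [hbk u, he1]
        _ = b u' • (k u • w) := by
          rw [← mul_smul, ← hWc _ (Subgroup.subset_closure ⟨t', ht', t, ht, htt.symm, hb u'⟩)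
            _ (hk u), mul_smul]
        _ = b u' • q u' := by rw [hkq, he2]
    have := Nat.card_le_card_of_injective _ hinj
    rw [Nat.card_prod, ← C.card_orb hxy ht'w, ← hs, Nat.card_eq_finsetCard,
      Nat.card_eq_finsetCard] at this
    exact this
  have hdisj : (P : Set Ω).PairwiseDisjoint fun t => (Q t).erase w := by
    intro t ht t' ht' htt
    refine Finset.disjoint_left.2 fun u hu hu' => ?_
    obtain ⟨huw, huQ⟩ := Finset.mem_erase.1 hu
    obtain ⟨-, huQ'⟩ := Finset.mem_erase.1 hu'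
    have hu1 := (Finset.mem_filter.1 huQ).2
    have hu2 := (Finset.mem_filter.1 huQ').2
    obtain ⟨g, hg, rfl⟩ := (Finset.mem_filter.1 (Finset.mem_filter.1 huQ).1).2
    have hgt : ∀ r ∈ P, r ≠ g • w := fun r hr e =>
      hwP (MulAction.injective g ((hWfix g hg r hr).trans e) ▸ hr)
    have htw : t ≠ w := fun e => hwP (e ▸ Finset.mem_coe.1 ht)
    have ht'w : t' ≠ w := fun e => hwP (e ▸ Finset.mem_coe.1 ht')
    have e1 := kernel_symm htw (hgt t ht) huw.symm hu1
    have e2 := kernel_symm ht'w (hgt t' ht') huw.symm hu2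
    exact hne t ht t' ht' htt
      (kernel_symm htw.symm ht'w.symm htt (e2.trans e1.symm))
  have hsub : P.biUnion (fun t => (Q t).erase w) ⊆ W'.erase w := by
    intro u hu
    obtain ⟨t, -, hu⟩ := Finset.mem_biUnion.1 hu
    obtain ⟨huw, huQ⟩ := Finset.mem_erase.1 hu
    exact Finset.mem_erase.2 ⟨huw, (Finset.mem_filter.1 huQ).1⟩
  have hsum := Finset.card_le_card hsub
  rw [Finset.card_biUnion hdisj, Finset.card_erase_of_mem hwW] at hsum
  have hP2 : s + 2 ≤ P.card := by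
    haveI : Finite (C.orb x y) := ((Set.toFinite _).image _).to_subtype
    have hvP : v ∈ P := by simp [hP, h]
    have : insert x (insert v (C.orb x y)) ⊆ (P : Set Ω) := by
      intro u hu
      rcases hu with rfl | rfl | ⟨n, hn, rfl⟩
      · exact hxP
      · exact hvP
      · simp [hP, ← A_orbit hxy hn]
    have := Set.ncard_le_ncard this (Finset.finite_toSet _)
    rw [Set.ncard_coe_finset, Set.ncard_insert_of_notMem (by simp [hxv, not_mem_orb hxy])
      (Set.toFinite _), Set.ncard_insert_of_notMem hv (Set.toFinite _)] at this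
    rw [hs, Nat.card_coe_set_eq]
    omega
  have h2s : 2 ≤ s := two_le_orb hxy
  set p := W'.card with hp
  have hp1 : 1 ≤ p := Finset.card_pos.2 ⟨w, hwW⟩
  have hterm : ∀ t ∈ P, s - 1 ≤ ((Q t).erase w).card ∧ p ≤ s * ((Q t).erase w).card + s := by
    intro t ht
    have hwQ : w ∈ Q t := Finset.mem_filter.2 ⟨hwW, rfl⟩
    have e := Finset.card_erase_add_one hwQ
    refine ⟨by have := hQlow t ht; omega, ?_⟩
    have := hQup t ht
    rw [← e, Nat.mul_add, Nat.mul_one] at this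
    exact this
  set sm := ∑ t ∈ P, ((Q t).erase w).card with hSm
  have h1 : P.card * (s - 1) ≤ sm := by
    rw [← smul_eq_mul]
    exact Finset.card_nsmul_le_sum _ _ _ fun t ht => (hterm t ht).1
  have h2 : P.card * p ≤ s * sm + P.card * s := by
    calc P.card * p = ∑ _t ∈ P, p := by rw [Finset.sum_const, smul_eq_mul]
      _ ≤ ∑ t ∈ P, (s * ((Q t).erase w).card + s) := Finset.sum_le_sum fun t ht => (hterm t ht).2
      _ = s * sm + P.card * s := by
        rw [Finset.sum_add_distrib, ← Finset.mul_sum, Finset.sum_const, smul_eq_mul]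
  obtain ⟨i, hi⟩ : ∃ i, s = i + 2 := ⟨s - 2, by omega⟩
  obtain ⟨j, hj⟩ : ∃ j, P.card = s + 2 + j := ⟨P.card - (s + 2), by omega⟩
  obtain ⟨m, hm⟩ : ∃ m, p = m + 1 := ⟨p - 1, by omega⟩
  have hSmm : sm ≤ m := by omega
  have hSm0 : (s + 2) * (i + 1) ≤ sm := by
    have : s - 1 = i + 1 := by omega
    rw [this] at h1
    exact le_trans (Nat.mul_le_mul_right _ (by omega)) h1
  have hsm : s * sm ≤ s * m := Nat.mul_le_mul_left _ hSmm
  rw [hj, hm, hi] at h2
  rw [hi] at hSm0 hsm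
  have h3 : (2 + j) * ((i + 2 + 2) * (i + 1)) ≤ (2 + j) * m :=
    Nat.mul_le_mul_left _ (hSm0.trans hSmm)
  nlinarith [h2, hsm, h3, Nat.zero_le (i * j), Nat.zero_le (i * i * j), Nat.zero_le (i * i), Nat.zero_le i, Nat.zero_le j]

theorem mem_L_iff [Finite Ω] {x y v : Ω} (hxy : x ≠ y) :
    v ∈ C.L x y ↔ v = x ∨ v ∈ C.orb x y := by
  refine ⟨fun hv => ?_, ?_⟩
  · by_cases hvx : v = x
    · exact Or.inl hvx
    refine Or.inr (mem_orb_of_kernel hxy (Ne.symm hvx) ?_)
    exact (A_eq_of_le hxy (Ne.symm hvx) fun a ha => mem_A.2 ⟨(mem_A.1 ha).1,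
      hv a ⟨⟨x, (mem_A.1 ha).1⟩, C.fix x a (mem_A.1 ha).1, (mem_A.1 ha).2⟩⟩).symm
  · rintro (rfl | ⟨n, hn, rfl⟩)
    exacts [left_mem_L _ _, orbit_mem_L hxy hn]

theorem kernel_ne [Finite Ω] {x y z : Ω} (hxy : x ≠ y) (hz : z ∉ C.L x y) :
    C.A x y ≠ C.A x z := fun h => by
  have hxz : x ≠ z := fun e => hz (e ▸ left_mem_L x y)
  exact hz ((mem_L_iff hxy).2 (Or.inr (mem_orb_of_kernel hxy hxz h.symm)))

end Cfsg.Agent.Perm.ElationTI.Cfg
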